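import Groth.Agent.RefX.Lift
import Groth.Agent.InjQCoh7.Injective
import Groth.Agent.KZ.LFRes
import Groth.Agent.H23.Frame
import Mathlib

/-!
# Morphisms on an open from sections of the sheaf Hom
-/

set_option autoImplicit false
set_option linter.style.haveILetI false
set_option backward.isDefEq.respectTransparency false
set_option backward.isDefEq.respectTransparency.types false

universe u

open CategoryTheory CategoryTheory.Limits AlgebraicGeometry TopologicalSpace Opposite

namespace Groth.Agent.SpreadHom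

variable {X : Scheme.{u}} {F G : X.Modules}

/-- The value of an admissible family on a section. -/
theorem exists_app {W : X.Opens} (g : Γ(RefHull.homSh F G, W)) {V : X.Opens} (h : V ≤ W) (m : Γ(F, V)) :
    ∃ n : Γ(G, V), ∀ y (hy : y ∈ V),
      G.presheaf.germ V y hy n = g.1 ⟨y, h hy⟩ (F.presheaf.germ V y hy m) := by
  refine InjQCoh7.exists_section (I := G) V (fun y hy => g.1 ⟨y, h hy⟩ (F.presheaf.germ V y hy m)) fun z hz => ?_
  obtain ⟨O, hzO, j, n, hn⟩ := g.2 V (homOfLE h) m ⟨z, hz⟩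
  exact ⟨O, hzO, n, fun y hyO _ => (hn ⟨y, hyO⟩).symm⟩

/-- A section of the sheaf Hom gives a morphism of the restrictions. -/
theorem exists_hom {W : X.Opens} (g : Γ(RefHull.homSh F G, W)) :
    ∃ φ : (Scheme.Modules.restrictFunctor W.ι).obj F ⟶ (Scheme.Modules.restrictFunctor W.ι).obj G,
      ∀ (O : (W : Scheme.{u}).Opens) (y : X) (hy : y ∈ W.ι ''ᵁ O) (m : Γ(F, W.ι ''ᵁ O)),
        G.presheaf.germ (W.ι ''ᵁ O) y hy (φ.app O m) =
          g.1 ⟨y, W.ι_image_le O hy⟩ (F.presheaf.germ (W.ι ''ᵁ O) y hy m) := by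
  choose app happ using fun (O : (W : Scheme.{u}).Opens) (m : Γ(F, W.ι ''ᵁ O)) =>
    exists_app g (W.ι_image_le O) m
  have huniq : ∀ (O : (W : Scheme.{u}).Opens) (m : Γ(F, W.ι ''ᵁ O)) (n : Γ(G, W.ι ''ᵁ O)),
      (∀ y (hy : y ∈ W.ι ''ᵁ O), G.presheaf.germ (W.ι ''ᵁ O) y hy n =
        g.1 ⟨y, W.ι_image_le O hy⟩ (F.presheaf.germ (W.ι ''ᵁ O) y hy m)) → n = app O m := fun O m n h =>
    TopCat.Presheaf.section_ext ⟨G.presheaf, G.isSheaf⟩ _ _ _ fun y hy => (h y hy).trans (happ O m y hy).symm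
  let appHom : ∀ O : (W : Scheme.{u}).Opens, Γ(F.restrict W.ι, O) →ₗ[Γ((W : Scheme.{u}), O)] Γ(G.restrict W.ι, O) := fun O =>
    { toFun := fun m => app O m
      map_add' := fun a b => (huniq O _ _ fun y hy => by
        erw [map_add, happ O a y hy, happ O b y hy]
        exact (map_add (g.1 ⟨y, W.ι_image_le O hy⟩) _ _).symm.trans
          (congrArg (g.1 ⟨y, W.ι_image_le O hy⟩) (map_add _ _ _).symm)).symm
      map_smul' := fun r a => by
        rw [RingHom.id_apply, H23.Frame.restrict_smul, H23.Frame.restrict_smul]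
        refine (huniq O _ _ fun y hy => ?_).symm
        erw [Mero.germ_smul, Mero.germ_smul, happ O a y hy]
        exact (map_smul (g.1 ⟨y, W.ι_image_le O hy⟩) _ _).symm }
  refine ⟨⟨PresheafOfModules.homMk
    { app := fun O => AddCommGrpCat.ofHom (appHom O.unop).toAddMonoidHom
      naturality := fun O O' i => AddCommGrpCat.hom_ext (AddMonoidHom.ext fun n => (huniq O'.unop
        ((F.restrict W.ι).presheaf.map i n) ((G.restrict W.ι).presheaf.map i (app O.unop n)) fun y hy => by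
        show G.presheaf.germ (W.ι ''ᵁ O'.unop) y hy (G.presheaf.map (W.ι.opensFunctor.op.map i) _) =
          g.1 ⟨y, W.ι_image_le O'.unop hy⟩ (F.presheaf.germ (W.ι ''ᵁ O'.unop) y hy (F.presheaf.map (W.ι.opensFunctor.op.map i) n))
        let j : W.ι ''ᵁ O'.unop ⟶ W.ι ''ᵁ O.unop := (W.ι.opensFunctor.op.map i).unop
        erw [TopCat.Presheaf.germ_res_apply G.presheaf j y hy]
        erw [TopCat.Presheaf.germ_res_apply F.presheaf j y hy]
        exact happ O.unop n y (j.le hy)).symm) }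
    (fun O r m => (appHom O.unop).map_smul r m)⟩, fun O y hy m => happ O m y hy⟩

theorem exists_hom_restrict_of_stalk [IsLocallyNoetherian X] (hG : Coh.IsCoh F) (x : X)
    (ψ : RefHull.StalkHom F G x) :
    ∃ (W : X.Opens) (hx : x ∈ W)
      (φ : (Scheme.Modules.restrictFunctor W.ι).obj F ⟶ (Scheme.Modules.restrictFunctor W.ι).obj G),
      (Scheme.Modules.restrictStalkNatIso W.ι (⟨x, hx⟩ : W)).inv.app F ≫
          (TopCat.Presheaf.stalkFunctor _ (⟨x, hx⟩ : W)).map φ.mapPresheaf ≫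
            (Scheme.Modules.restrictStalkNatIso W.ι (⟨x, hx⟩ : W)).hom.app G =
        AddCommGrpCat.ofHom ψ.toAddMonoidHom := by
  obtain ⟨θ, rfl⟩ := (RefX.evalStalk_bijective (G := G) (KZ.LFRes.isFP_of_isCoh hG) x).2 ψ
  obtain ⟨W, hx, g, rfl⟩ : ∃ (W : X.Opens) (hx : x ∈ W) (g : Γ(RefHull.homSh F G, W)),
      (RefHull.homSh F G).presheaf.germ W x hx g = θ :=
    TopCat.Presheaf.exists_germ_eq (RefHull.homSh F G).presheaf θ
  obtain ⟨φ, hφ⟩ := exists_hom g
  refine ⟨W, hx, φ, ?_⟩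
  let p : W := ⟨x, hx⟩
  have hstalk : ∀ v : F.presheaf.stalk x,
      ((Scheme.Modules.restrictStalkNatIso W.ι p).inv.app F ≫
          (TopCat.Presheaf.stalkFunctor _ p).map φ.mapPresheaf ≫
            (Scheme.Modules.restrictStalkNatIso W.ι p).hom.app G) v =
        RefHull.evalStalk F G x ((RefHull.homSh F G).presheaf.germ W x hx g) v := by
    intro v
    obtain ⟨O, hxO, m, rfl⟩ := TopCat.Presheaf.exists_germ_eq F.presheaf v
    rw [RefHull.evalStalk_germ]
    let O' : (W : Scheme.{u}).Opens := W.ι ⁻¹ᵁ O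
    have hxO' : x ∈ W.ι ''ᵁ O' := ⟨p, hxO, rfl⟩
    rw [← TopCat.Presheaf.germ_res_apply F.presheaf (homOfLE (W.ι.image_preimage_le O)) x hxO' m]
    generalize F.presheaf.map (homOfLE (W.ι.image_preimage_le O)).op m = m'
    simp only [CategoryTheory.comp_apply]
    erw [ConcreteCategory.congr_hom (Scheme.Modules.germ_restrictStalkNatIso_inv_app (U := O') W.ι p F hxO) m']
    erw [TopCat.Presheaf.stalkFunctor_map_germ_apply]
    erw [ConcreteCategory.congr_hom (Scheme.Modules.germ_restrictStalkNatIso_hom_app (U := O') W.ι p G hxO)]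
    exact hφ O' x hxO' m'
  exact AddCommGrpCat.hom_ext (AddMonoidHom.ext hstalk)

end Groth.Agent.SpreadHom
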